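import Mathlib

/-! `2`-elements of symmetric groups lying in a unique Sylow `2`-subgroup. -/

set_option autoImplicit false

namespace Cfsg.Agent.SymNil

open Subgroup Equiv Equiv.Perm

universe u

variable {Ω : Type u}

/-- At most two fixed points and distinct nontrivial cycle lengths. -/
structure Cnd (x : Perm Ω) : Prop where
  two : ∃ k, x ^ 2 ^ k = 1
  fix : ∀ a b c, x a = a → x b = b → x c = c → a = b ∨ a = c ∨ b = c
  cyc : ∀ j a b, (x ^ 2 ^ (j + 1)) a = a → (x ^ 2 ^ j) a ≠ a → (x ^ 2 ^ (j + 1)) b = b →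
    (x ^ 2 ^ j) b ≠ b → ∃ i : ℕ, (x ^ i) a = b

/-- A maximal matching. -/
def Mt (m : Perm Ω) : Prop := (∀ a, m (m a) = a) ∧ ∀ a b, m a = a → m b = b → a = b

theorem exists_level {x : Perm Ω} {a : Ω} (h1 : x a ≠ a) {k : ℕ} (h : (x ^ 2 ^ k) a = a) :
    ∃ j, (x ^ 2 ^ (j + 1)) a = a ∧ (x ^ 2 ^ j) a ≠ a := by
  induction k with
  | zero => exact absurd (by simpa using h) h1
  | succ k ih =>
    by_cases c : (x ^ 2 ^ k) a = a
    · exact ih c
    · exact ⟨k, h, c⟩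

theorem level_iff {x : Perm Ω} {a : Ω} {j : ℕ} (h1 : (x ^ 2 ^ (j + 1)) a = a)
    (h2 : (x ^ 2 ^ j) a ≠ a) (n : ℕ) : (x ^ n) a = a ↔ 2 ^ (j + 1) ∣ n := by
  have e : ∀ n : ℕ, (x ^ n) a = a ↔ MulAction.period x a ∣ n := fun n =>
    MulAction.pow_smul_eq_iff_period_dvd (m := x) (a := a)
  rw [e] at h1 ⊢
  rw [Nat.eq_prime_pow_of_dvd_least_prime_pow Nat.prime_two (mt (e _).2 h2) h1]

theorem comm_apply {x m : Perm Ω} (h : Commute x m) (n : ℕ) (a : Ω) :
    (x ^ n) (m a) = m ((x ^ n) a) := congrArg (fun f : Perm Ω => f a) (h.pow_left n).eq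

theorem Cnd.key {x m : Perm Ω} (h : Cnd x) (hm : Mt m) (hc : Commute x m) {a : Ω} {j : ℕ}
    (h1 : (x ^ 2 ^ (j + 1)) a = a) (h2 : (x ^ 2 ^ j) a ≠ a) : m a = (x ^ 2 ^ j) a := by
  have a1 : m a ≠ a := fun e => h2 (hm.2 _ _ (by rw [← comm_apply hc, e]) e)
  obtain ⟨i, hi⟩ := h.cyc j a (m a) h1 h2 (by rw [comm_apply hc, h1])
    (by rw [comm_apply hc]; exact m.injective.ne h2)
  have a2 : (x ^ (i + i)) a = a := by rw [pow_add, mul_apply, hi, comm_apply hc, hi, hm.1]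
  rw [level_iff h1 h2, pow_succ', ← two_mul, Nat.mul_dvd_mul_iff_left two_pos] at a2
  obtain ⟨t, rfl⟩ := a2
  rcases Nat.even_or_odd' t with ⟨s, rfl | rfl⟩
  · exact absurd (hi.symm.trans ((level_iff h1 h2 _).2 ⟨s, by ring⟩)) a1
  · rw [← hi, mul_add, mul_one, add_comm, pow_add, mul_apply,
      (level_iff h1 h2 _).2 ⟨s, by ring⟩]

theorem Cnd.uniq {x m m' : Perm Ω} (h : Cnd x) (hm : Mt m) (hc : Commute x m) (hm' : Mt m')
    (hc' : Commute x m') : m = m' := by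
  have aux : ∀ m m' : Perm Ω, Mt m → Commute x m → Commute x m' → ∀ a, x a = a → m a = a →
      m' a = a := fun m m' hm hc hc' a ha e => by
    have b1 : x (m' a) = m' a := by simpa [ha] using comm_apply hc' 1 a
    have b2 : x (m (m' a)) = m (m' a) := by simpa [b1] using comm_apply hc 1 (m' a)
    rcases h.fix _ _ _ ha b1 b2 with c | c | c
    · exact c.symm
    · exact m.injective (c.symm.trans e.symm)
    · exact hm.2 _ _ c.symm e
  ext a
  by_cases ha : x a = a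
  · have b1 : x (m a) = m a := by simpa [ha] using comm_apply hc 1 a
    have b2 : x (m' a) = m' a := by simpa [ha] using comm_apply hc' 1 a
    rcases h.fix _ _ _ ha b1 b2 with c | c | c
    · rw [aux m m' hm hc hc' a ha c.symm, ← c]
    · rw [aux m' m hm' hc' hc a ha c.symm, ← c]
    · exact c
  · obtain ⟨k, hk⟩ := h.two
    obtain ⟨j, h1, h2⟩ := exists_level ha (k := k) (by simp [hk])
    rw [h.key hm hc h1 h2, h.key hm' hc' h1 h2]

theorem exists_mt [Finite Ω] {P : Subgroup (Perm Ω)} (hP : IsPGroup 2 P) :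
    ∃ m, Mt m ∧ ∀ y ∈ P, Commute y m := by
  classical
  obtain ⟨m, ⟨h1, h2⟩, h3⟩ := Set.exists_min_image {m : Perm Ω | (∀ a, m (m a) = a) ∧
    ∀ y ∈ P, Commute y m} (fun m => {a | m a = a}.ncard) (Set.toFinite _) ⟨1, by simp⟩
  refine ⟨m, ⟨h1, fun a b ha hb => by_contra fun hab => ?_⟩, h2⟩
  have inv : ∀ y ∈ P, ∀ c, m c = c → m (y c) = y c := fun y hy c hc => by
    simpa [hc] using (comm_apply (h2 y hy) 1 c).symm
  obtain ⟨z, z1, z2, z3, c, z4, z5⟩ : ∃ z : Perm Ω, (∀ c, m c = c → m (z c) = z c) ∧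
      (∀ c, m c = c → z (z c) = c) ∧ (∀ y ∈ P, ∀ c, m c = c → y (z c) = z (y c)) ∧
      ∃ c, m c = c ∧ z c ≠ c := by
    let K : Subgroup P :=
      { carrier := {y | ∀ c, m c = c → y.1 c = c}
        one_mem' := fun _ _ => rfl
        mul_mem' := fun {u v} hu hv c hc => by simp [hv c hc, hu c hc]
        inv_mem' := fun {u} hu c hc => by simpa [Equiv.symm_apply_eq] using (hu c hc).symm }
    have hK : K.Normal := ⟨fun u hu y c hc => by
      change y.1 (u.1 (y.1⁻¹ c)) = c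
      rw [hu _ (inv _ (inv_mem y.2) c hc)]; simp⟩
    by_cases hT : K = ⊤
    · have f : ∀ y ∈ P, ∀ c, m c = c → y c = c := fun y hy => (hT ▸ mem_top _ : (⟨y, hy⟩ : P) ∈ K)
      have s1 : ∀ c, m c = c → m (swap a b c) = swap a b c := fun c hc => by
        rw [swap_apply_def]; split_ifs <;> assumption
      exact ⟨swap a b, s1, by simp, fun y hy c hc => by rw [f y hy _ (s1 c hc), f y hy c hc], a, ha,
        by simpa using Ne.symm hab⟩
    have := QuotientGroup.nontrivial_iff.2 hT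
    have hQ : IsPGroup 2 (P ⧸ K) := hP.to_quotient K
    have := hQ.center_nontrivial
    obtain ⟨k, hk, e⟩ := (hQ.to_subgroup (center _)).nontrivial_iff_card.1 ‹_›
    obtain ⟨⟨w, hw⟩, ho⟩ := exists_prime_orderOf_dvd_card' (G := center (P ⧸ K)) 2
      (e ▸ dvd_pow_self 2 hk.ne')
    obtain ⟨z, rfl⟩ := QuotientGroup.mk_surjective w
    have o1 : z * z ∈ K := by
      rw [← QuotientGroup.eq_one_iff, ← sq]
      exact congrArg Subtype.val (ho ▸ pow_orderOf_eq_one (⟨z, hw⟩ : center (P ⧸ K)))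
    have o2 : z ∉ K := fun c => by
      rw [show (⟨z, hw⟩ : center (P ⧸ K)) = 1 from Subtype.ext ((QuotientGroup.eq_one_iff _).2 c)] at ho
      simp at ho
    refine ⟨z, inv _ z.2, o1, fun y hy c hc => ?_, by
      by_contra c; push Not at c; exact o2 c⟩
    have o3 : (z * ⟨y, hy⟩)⁻¹ * (⟨y, hy⟩ * z) ∈ K := 
      QuotientGroup.eq.1 (mem_center_iff.1 hw ((⟨y, hy⟩ : P) : P ⧸ K)).symm
    simpa [Equiv.symm_apply_eq] using o3 c hc
  have i1 : Function.Involutive fun c => if m c = c then z c else m c := fun c => by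
    by_cases hc : m c = c
    · simp [hc, z1 c hc, z2 c hc]
    · simp [hc, h1, Ne.symm hc]
  refine absurd (h3 i1.toPerm ⟨i1, fun y hy => Equiv.ext fun d => ?_⟩) (not_le.2 ?_)
  · by_cases hd : m d = d
    · simp [hd, inv y hy d hd, z3 y hy d hd]
    · have := comm_apply (h2 y hy) 1 d
      simp only [pow_one] at this
      simp [hd, ← this]
  · refine Set.ncard_lt_ncard ⟨fun d hd => by_contra fun e => ?_, fun e => z5 ?_⟩
    · simp only [Set.mem_ofPred_eq] at e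
      simp [e] at hd
    · simpa [z4] using e z4

/-- The pairs of a matching. -/
def prs {m : Perm Ω} (hm : Mt m) : Setoid Ω where
  r a b := b = a ∨ b = m a
  iseqv := ⟨fun _ => .inl rfl, by rintro a b (rfl | rfl) <;> simp [hm.1],
    by rintro a b c (rfl | rfl) (rfl | rfl) <;> simp [hm.1]⟩

/-- The action on the pairs. -/
def act {m : Perm Ω} (hm : Mt m) : centralizer ({m} : Set (Perm Ω)) →* Perm (Quotient (prs hm)) :=
  MonoidHom.toHomPerm
    { toFun := fun y => Quotient.map y.1 (by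
        rintro a b (rfl | rfl)
        · exact .inl rfl
        · exact .inr (congrArg (fun f : Perm Ω => f a) (mem_centralizer_singleton_iff.1 y.2)))
      map_one' := funext fun q => Quotient.inductionOn q fun _ => rfl
      map_mul' := fun _ _ => funext fun q => Quotient.inductionOn q fun _ => rfl }

theorem act_mk {m : Perm Ω} (hm : Mt m) (y : centralizer ({m} : Set (Perm Ω))) (a : Ω) :
    act hm y (Quotient.mk _ a) = Quotient.mk _ (y.1 a) := rfl

theorem act_fix {m : Perm Ω} (hm : Mt m) (y : centralizer ({m} : Set (Perm Ω))) (n : ℕ) (a : Ω) :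
    (act hm y ^ n) (Quotient.mk _ a) = Quotient.mk _ a ↔ (y.1 ^ n) a = a ∨ (y.1 ^ n) a = m a := by
  rw [← map_pow, act_mk, eq_comm, Quotient.eq]; rfl

theorem act_ker {m : Perm Ω} (hm : Mt m) : IsPGroup 2 (act hm).ker := fun ⟨y, hy⟩ => ⟨1, by
  ext a
  have h1 := (act_fix hm y 1 a).1 (by simp [MonoidHom.mem_ker.1 hy])
  have h2 := comm_apply (mem_centralizer_singleton_iff.1 y.2) 1 a
  simp only [pow_one] at h1 h2
  rcases h1 with h1 | h1
  · simp [sq, h1]
  · simp [sq, h1, h2, hm.1]⟩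

theorem Cnd.act {m : Perm Ω} (hm : Mt m) {x : centralizer ({m} : Set (Perm Ω))} (h : Cnd x.1) :
    Cnd (act hm x) := by
  have hc : Commute x.1 m := mem_centralizer_singleton_iff.1 x.2
  have e : ∀ j a, (SymNil.act hm x ^ 2 ^ j) (Quotient.mk _ a) = Quotient.mk _ a ↔
      (x.1 ^ 2 ^ (j + 1)) a = a := fun j a => by
    rw [act_fix]
    refine ⟨fun c => ?_, fun c => ?_⟩
    · rw [pow_succ, mul_two, pow_add, mul_apply]
      rcases c with c | c
      · rw [c, c]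
      · rw [c, comm_apply hc, c, hm.1]
    · by_cases d : (x.1 ^ 2 ^ j) a = a
      · exact .inl d
      · exact .inr (h.key hm hc c d).symm
  refine ⟨?_, fun a b c => Quotient.inductionOn₃ a b c fun a b c ha hb hd => ?_,
    fun j a b => Quotient.inductionOn₂ a b fun a b a1 a2 b1 b2 => ?_⟩
  · obtain ⟨k, hk⟩ := h.two
    exact ⟨k, by rw [← map_pow, show x ^ 2 ^ k = 1 from Subtype.ext hk, map_one]⟩
  · have ha' := (e 0 a).1 (by simpa using ha)
    have hb' := (e 0 b).1 (by simpa using hb)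
    have hd' := (e 0 c).1 (by simpa using hd)
    have f1 : ∀ a b, x.1 a = a → x.1 b = b → Quotient.mk (prs hm) a = Quotient.mk _ b := fun a b ha hb => by
      have a1 : x.1 (m a) = m a := by simpa [ha] using comm_apply hc 1 a
      have b1 : x.1 (m b) = m b := by simpa [hb] using comm_apply hc 1 b
      rcases h.fix a b (m a) ha hb a1 with c | c | c
      · rw [c]
      · rcases h.fix a b (m b) ha hb b1 with d | d | d
        · rw [d]
        · exact (Quotient.sound (Or.inr d)).symm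
        · rw [hm.2 a b c.symm d.symm]
      · exact Quotient.sound (.inr c)
    have f2 : ∀ a b, (x.1 ^ 2 ^ (0 + 1)) a = a → (x.1 ^ 2 ^ (0 + 1)) b = b → x.1 a ≠ a → x.1 b ≠ b →
        Quotient.mk (prs hm) a = Quotient.mk _ b := fun a b a1 b1 a2 b2 => by
      obtain ⟨i, rfl⟩ := h.cyc 0 a b a1 (by simpa using a2) b1 (by simpa using b2)
      have := (e 0 a).2 a1
      rw [pow_zero, pow_one] at this
      exact (pow_apply_eq_self_of_apply_eq_self this i).symm.trans (by rw [← map_pow]; rfl)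
    by_cases a2 : x.1 a = a <;> by_cases b2 : x.1 b = b <;> by_cases c2 : x.1 c = c <;>
      first
      | exact .inl (f1 _ _ ‹_› ‹_›)
      | exact .inr (.inl (f1 _ _ ‹_› ‹_›))
      | exact .inr (.inr (f1 _ _ ‹_› ‹_›))
      | exact .inl (f2 _ _ ‹_› ‹_› ‹_› ‹_›)
      | exact .inr (.inl (f2 _ _ ‹_› ‹_› ‹_› ‹_›))
      | exact .inr (.inr (f2 _ _ ‹_› ‹_› ‹_› ‹_›))
  · obtain ⟨i, rfl⟩ := h.cyc (j + 1) a b ((e _ _).1 a1) (mt (e _ _).2 a2) ((e _ _).1 b1)
      (mt (e _ _).2 b2)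
    exact ⟨i, by rw [← map_pow]; rfl⟩

theorem Cnd.sup (n : ℕ) : ∀ (Ω : Type u) [Finite Ω] {x : Perm Ω} {P Q : Subgroup (Perm Ω)},
    Nat.card Ω = n → Cnd x → x ∈ P → x ∈ Q → IsPGroup 2 P → IsPGroup 2 Q →
    IsPGroup 2 (P ⊔ Q : Subgroup _) := by
  induction n using Nat.strong_induction_on with
  | _ n ih =>
  intro Ω _ x P Q hn h hP hQ p q
  rcases subsingleton_or_nontrivial Ω with _ | _
  · exact fun g => ⟨0, Subsingleton.elim _ _⟩
  obtain ⟨m, hm, c⟩ := exists_mt p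
  obtain ⟨m', hm', c'⟩ := exists_mt q
  obtain rfl := h.uniq hm (c x hP) hm' (c' x hQ)
  have p1 : P ≤ centralizer {m} := fun y hy => mem_centralizer_singleton_iff.2 (c y hy)
  have q1 : Q ≤ centralizer {m} := fun y hy => mem_centralizer_singleton_iff.2 (c' y hy)
  have lt : Nat.card (Quotient (prs hm)) < n := by
    have := Fintype.ofFinite Ω
    have := Fintype.ofFinite (Quotient (prs hm))
    rw [← hn, Nat.card_eq_fintype_card, Nat.card_eq_fintype_card]
    refine Fintype.card_lt_of_surjective_not_injective _ Quotient.mk_surjective fun i => ?_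
    obtain ⟨a, b, hab⟩ := exists_pair_ne Ω
    exact hab (hm.2 a b (i (Quotient.sound (.inr rfl))).symm (i (Quotient.sound (.inr rfl))).symm)
  have r := ih _ lt _ rfl (Cnd.act hm (x := ⟨x, p1 hP⟩) h)
    (mem_map_of_mem _ (show _ ∈ P.subgroupOf _ from hP))
    (mem_map_of_mem _ (show _ ∈ Q.subgroupOf _ from hQ))
    ((p.comap_subtype).map _) ((q.comap_subtype).map _)
  have r2 := (r.comap_of_ker_isPGroup _ (act_ker hm)).map (centralizer {m}).subtype
  refine r2.to_le (sup_le (fun y hy => ⟨⟨y, p1 hy⟩, ?_, rfl⟩) fun y hy => ⟨⟨y, q1 hy⟩, ?_, rfl⟩)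
  · exact mem_sup_left (mem_map_of_mem _ (show _ ∈ P.subgroupOf _ from hy))
  · exact mem_sup_right (mem_map_of_mem _ (show _ ∈ Q.subgroupOf _ from hy))

theorem not_unique [Finite Ω] {x v w : Perm Ω} {R S : Subgroup (Perm Ω)} (hR : IsPGroup 2 R)
    (hS : IsPGroup 2 S) (x1 : x ∈ R) (x2 : x ∈ S) (hv : v ∈ R) (hw : w ∈ S) {a : Ω}
    (h1 : v (w a) ≠ a) (h3 : v (w (v (w (v (w a))))) = a) : ¬ ∃! P : Sylow 2 (Perm Ω), x ∈ P := by
  rintro ⟨P, -, hP⟩
  obtain ⟨R', r⟩ := hR.exists_le_sylow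
  obtain ⟨S', s⟩ := hS.exists_le_sylow
  obtain rfl := hP R' (r x1)
  obtain rfl := hP S' (s x2)
  obtain ⟨k, hk⟩ := S'.isPGroup' ⟨v * w, mul_mem (r hv) (s hw)⟩
  have e : ∀ n : ℕ, ((v * w) ^ n) a = a ↔ MulAction.period (v * w) a ∣ n := fun n =>
    MulAction.pow_smul_eq_iff_period_dvd (m := v * w) (a := a)
  have a1 := (e 3).1 (by simpa [pow_succ] using h3)
  have a2 := (e (2 ^ k)).1 (by rw [show (v * w) ^ 2 ^ k = 1 from congrArg Subtype.val hk]; rfl)
  have a3 := (e 1).2 (((by norm_num : Nat.Coprime 3 2).pow_right k) ▸ Nat.dvd_gcd a1 a2)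
  exact h1 (by simpa using a3)

theorem pgroup_sup {G : Type*} [Group G] {x v : G} (hx : ∃ k, x ^ 2 ^ k = 1) (hv : v * v = 1)
    (h1 : x * x * v = v * (x * x)) (h2 : v * (x * v * x⁻¹) = x * v * x⁻¹ * v) :
    ∃ R : Subgroup G, IsPGroup 2 R ∧ x ∈ R ∧ v ∈ R := by
  have z : ∀ y : G, (∃ k, y ^ 2 ^ k = 1) → IsPGroup 2 (zpowers y) := fun y ⟨k, hk⟩ ⟨_, n, rfl⟩ =>
    ⟨k, Subtype.ext (by
      change (y ^ n) ^ 2 ^ k = 1
      rw [← zpow_natCast, zpow_comm, zpow_natCast, hk, one_zpow])⟩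
  have a1 := z v ⟨1, by simpa [sq] using hv⟩
  have a2 := z (x * v * x⁻¹) ⟨1, by simp [sq, mul_assoc, ← mul_assoc v, hv]⟩
  have a3 : IsPGroup 2 (zpowers v ⊔ zpowers (x * v * x⁻¹) : Subgroup G) :=
    a1.to_sup_of_normal_left' a2 (by
      refine zpowers_le.2 (centralizer_le_normalizer _ ?_)
      rintro _ ⟨n, rfl⟩
      exact (Commute.zpow_left h2 n).eq)
  refine ⟨_, a3.to_sup_of_normal_left' (z x hx) (zpowers_le.2 ?_), mem_sup_right (mem_zpowers x),
    mem_sup_left (mem_sup_left (mem_zpowers v))⟩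
  rw [mem_normalizer_iff_map_conj_eq, Subgroup.map_sup, MonoidHom.map_zpowers, MonoidHom.map_zpowers,
    sup_comm]
  congr 2
  simp only [MonoidHom.coe_coe, MulAut.conj_apply]
  rw [← mul_assoc, ← mul_assoc, h1]; group

theorem exists_sw [Finite Ω] {x : Perm Ω} {a b : Ω} {j : ℕ} (hx : ∃ k, x ^ 2 ^ k = 1)
    (a1 : (x ^ 2 ^ (j + 1)) a = a) (a2 : (x ^ 2 ^ j) a ≠ a) (b1 : (x ^ 2 ^ (j + 1)) b = b)
    (b2 : (x ^ 2 ^ j) b ≠ b) (hab : ¬ x.SameCycle a b) :
    ∃ (v : Perm Ω) (R : Subgroup (Perm Ω)), IsPGroup 2 R ∧ x ∈ R ∧ v ∈ R ∧ v a = b ∧ v b = a ∧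
      v (x b) = x b ∧ v (x⁻¹ b) = x⁻¹ b := by
  classical
  have cmp : ∀ c : Ω, (x ^ 2 ^ (j + 1)) c = c → (x ^ 2 ^ j) c ≠ c → ∀ s t : ℤ,
      (x ^ s) c = (x ^ t) c ↔ (2 ^ (j + 1) : ℤ) ∣ s - t := fun c c1 c2 s t => by
    have e : MulAction.period x c = 2 ^ (j + 1) := Nat.dvd_antisymm
      ((MulAction.pow_smul_eq_iff_period_dvd (m := x) (a := c)).1 c1)
      ((level_iff c1 c2 _).1 (MulAction.pow_period_smul x c))
    have := MulAction.zpow_smul_eq_iff_period_dvd (g := x) (a := c) (j := s - t)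
    rw [e] at this
    push_cast at this
    rw [← this, sub_eq_neg_add, zpow_add, zpow_neg, mul_smul, inv_smul_eq_iff]; rfl
  let f : Ω → Ω := fun c => if h : ∃ i : ℤ, (x ^ (2 * i)) a = c then (x ^ (2 * h.choose)) b else
    if h : ∃ i : ℤ, (x ^ (2 * i)) b = c then (x ^ (2 * h.choose)) a else c
  have ne : ∀ s t : ℤ, (x ^ s) a ≠ (x ^ t) b := fun s t e => hab ⟨-t + s, by
    rw [zpow_add, mul_apply, e, ← mul_apply, ← zpow_add]; simp⟩
  have fa : ∀ i : ℤ, f ((x ^ (2 * i)) a) = (x ^ (2 * i)) b := fun i => by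
    have h : ∃ k : ℤ, (x ^ (2 * k)) a = (x ^ (2 * i)) a := ⟨i, rfl⟩
    simp only [f, dif_pos h]
    exact (cmp b b1 b2 _ _).2 ((cmp a a1 a2 _ _).1 h.choose_spec)
  have fb : ∀ i : ℤ, f ((x ^ (2 * i)) b) = (x ^ (2 * i)) a := fun i => by
    have h : ∃ k : ℤ, (x ^ (2 * k)) b = (x ^ (2 * i)) b := ⟨i, rfl⟩
    have h' : ¬ ∃ k : ℤ, (x ^ (2 * k)) a = (x ^ (2 * i)) b := fun ⟨k, e⟩ => ne _ _ e
    simp only [f, dif_pos h, dif_neg h']
    exact (cmp a a1 a2 _ _).2 ((cmp b b1 b2 _ _).1 h.choose_spec)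
  let A : Ω → Prop := fun c => (∃ i : ℤ, (x ^ (2 * i)) a = c) ∨ ∃ i : ℤ, (x ^ (2 * i)) b = c
  have fc : ∀ c, ¬ A c → f c = c := fun c h => by
    simp only [f, dif_neg (not_or.1 h).1, dif_neg (not_or.1 h).2]
  have fA : ∀ c, A c → A (f c) := by
    rintro _ (⟨i, rfl⟩ | ⟨i, rfl⟩)
    · exact .inr ⟨i, (fa i).symm⟩
    · exact .inl ⟨i, (fb i).symm⟩
  have odd : ∀ c : Ω, (x ^ 2 ^ (j + 1)) c = c → (x ^ 2 ^ j) c ≠ c → ∀ s t : ℤ,
      (x ^ (2 * s)) c ≠ x ((x ^ (2 * t)) c) := fun c c1 c2 s t e => by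
    rw [← mul_apply, ← zpow_one_add, cmp c c1 c2] at e
    have := (dvd_pow_self (2 : ℤ) j.succ_ne_zero).trans e
    omega
  have xA : ∀ c, A c → ¬ A (x c) := by
    rintro _ (⟨i, rfl⟩ | ⟨i, rfl⟩) (⟨k, e⟩ | ⟨k, e⟩)
    · exact odd a a1 a2 _ _ e
    · rw [← mul_apply, ← zpow_one_add] at e; exact ne _ _ e.symm
    · rw [← mul_apply, ← zpow_one_add] at e; exact ne _ _ e
    · exact odd b b1 b2 _ _ e
  have i1 : Function.Involutive f := fun c => by
    by_cases h : A c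
    · rcases h with ⟨i, rfl⟩ | ⟨i, rfl⟩
      · rw [fa, fb]
      · rw [fb, fa]
    · rw [fc c h, fc c h]
  have sq : ∀ (i : ℤ) c, x (x ((x ^ (2 * i)) c)) = (x ^ (2 * (i + 1))) c := fun i c => by
    rw [← mul_apply, ← mul_apply, mul_assoc, ← zpow_one_add, ← zpow_one_add]; congr 2; ring
  have hb : A b := .inr ⟨0, by simp⟩
  obtain ⟨R, r1, r2, r3⟩ := pgroup_sup hx (v := i1.toPerm) (Equiv.ext i1) (Equiv.ext fun c => by
    change x (x (f c)) = f (x (x c))
    by_cases h : A c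
    · rcases h with ⟨i, rfl⟩ | ⟨i, rfl⟩
      · rw [fa, sq, sq, fa]
      · rw [fb, sq, sq, fb]
    · rw [fc c h, fc]
      rintro (⟨i, e⟩ | ⟨i, e⟩)
      · exact h (.inl ⟨i - 1, x.injective (x.injective (by rw [sq, ← e]; simp))⟩)
      · exact h (.inr ⟨i - 1, x.injective (x.injective (by rw [sq, ← e]; simp))⟩))
    (Equiv.ext fun c => by
      change f (x (f (x⁻¹ c))) = x (f (x⁻¹ (f c)))
      by_cases h : A c
      · rw [fc (x⁻¹ c) fun e => xA _ e (by simpa using h),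
          fc (x⁻¹ (f c)) fun e => xA _ e (by simpa using fA c h)]
        simp
      · rw [fc c h]
        by_cases h' : A (x⁻¹ c)
        · exact fc _ (xA _ (fA _ h'))
        · rw [fc _ h']; simp [fc c h])
  exact ⟨i1.toPerm, R, r1, r2, r3, by simpa using fa 0, by simpa using fb 0, fc _ (xA b hb),
    fc _ fun e => xA _ e (by simpa using hb)⟩

theorem cnd_of_unique [Finite Ω] {x : Perm Ω} (hx : ∃ k, x ^ 2 ^ k = 1)
    (h : ∃! P : Sylow 2 (Perm Ω), x ∈ P) : Cnd x := by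
  classical
  refine ⟨hx, fun a b c ha hb hc => by_contra fun hn => ?_, fun j a b a1 a2 b1 b2 => by_contra fun hn => ?_⟩
  · push Not at hn
    have key : ∀ b, x b = b → ∃ R : Subgroup (Perm Ω), IsPGroup 2 R ∧ x ∈ R ∧ swap a b ∈ R :=
      fun b hb => by
        have e : x * swap a b * x⁻¹ = swap a b := by rw [← swap_apply_apply, ha, hb]
        refine pgroup_sup hx (swap_mul_self _ _) ?_ (by rw [e])
        rw [mul_inv_eq_iff_eq_mul] at e
        rw [mul_assoc, e, ← mul_assoc, e, mul_assoc]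
    obtain ⟨R, r1, r2, r3⟩ := key b hb
    obtain ⟨S, s1, s2, s3⟩ := key c hc
    have e1 : swap a b c = c := swap_apply_of_ne_of_ne hn.2.1.symm hn.2.2.symm
    have e2 : swap a c b = b := swap_apply_of_ne_of_ne hn.1.symm hn.2.2
    exact not_unique r1 s1 r2 s2 r3 s3 (a := a) (by simpa [e1] using hn.2.1.symm)
      (by simp [e1, e2]) h
  · have hab : ¬ x.SameCycle a b := fun e => by
      obtain ⟨i, -, hi⟩ := e.exists_pow_eq'
      exact hn ⟨i, hi⟩
    obtain ⟨v, R, r1, r2, r3, v1, v2, v3, -⟩ := exists_sw hx a1 a2 b1 b2 hab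
    obtain ⟨w, S, s1, s2, s3, w1, w2, -, w3⟩ := exists_sw hx a1 a2 (b := x b)
      (by rw [comm_apply (Commute.refl x), b1]) (by
        rw [comm_apply (Commute.refl x)]; exact x.injective.ne b2) (by simpa using hab)
    replace w3 : w b = b := by simpa using w3
    exact not_unique r1 s1 r2 s2 r3 s3 (a := a) (by
      rw [w1, v3]; exact fun e => hab (sameCycle_apply_right.1 (e ▸ SameCycle.refl _ _)))
      (by rw [w1, v3, w2, v1, w3, v2]) h

end Cfsg.Agent.SymNil
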