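import Mathlib

/-! Numerical bounds for nilpotent permutation groups. -/

set_option autoImplicit false

namespace Cfsg.Agent.SymNil

open Nat

/-- The order of a Sylow `2`-subgroup of the symmetric group. -/
def g (n : ℕ) : ℕ := 2 ^ n.factorial.factorization 2

/-- The largest order of a transitive nilpotent group of degree `m`. -/
noncomputable def F (m : ℕ) : ℕ := m.factorization.prod fun p k => p ^ ((p ^ k - 1) / (p - 1))

theorem g_pos (n : ℕ) : 0 < g n := pow_pos two_pos _

theorem le_g {n k : ℕ} (h : 2 ^ k ∣ n !) : 2 ^ k ≤ g n :=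
  Nat.pow_le_pow_right two_pos ((prime_two.pow_dvd_iff_le_factorization n.factorial_ne_zero).1 h)

theorem g_dvd (n : ℕ) : g n ∣ n ! := ordProj_dvd _ _

theorem g_mul_le (a b : ℕ) : g a * g b ≤ g (a + b) := by
  rw [g, g, ← pow_add]
  exact le_g ((pow_add 2 _ _ ▸ mul_dvd_mul (g_dvd a) (g_dvd b)).trans
    (factorial_mul_factorial_dvd_factorial_add a b))

theorem g_succ (n : ℕ) : g (n + 1) = 2 ^ (n + 1).factorization 2 * g n := by
  rw [g, g, factorial_succ, Nat.factorization_mul n.succ_ne_zero n.factorial_ne_zero, Finsupp.add_apply,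
    pow_add]

theorem g_succ_odd {n : ℕ} (h : n % 2 = 0) : g (n + 1) = g n := by
  rw [g_succ, factorization_eq_zero_of_not_dvd (by omega)]; simp

theorem g_succ_two {n : ℕ} (h : n % 4 = 1) : g (n + 1) = 2 * g n := by
  rw [g_succ]
  congr 1
  have h1 := (prime_two.pow_dvd_iff_le_factorization (k := 1) n.succ_ne_zero).1 (by omega)
  have h2 := mt (prime_two.pow_dvd_iff_le_factorization (k := 2) n.succ_ne_zero).2 (by omega)
  rw [show (n + 1).factorization 2 = 1 from by simp only [succ_eq_add_one] at *; omega, pow_one]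

theorem g_succ_four {n : ℕ} (h : n % 4 = 3) : 4 * g n ≤ g (n + 1) := by
  rw [g_succ]
  exact Nat.mul_le_mul_right _ (Nat.pow_le_pow_right two_pos
    ((prime_two.pow_dvd_iff_le_factorization (k := 2) n.succ_ne_zero).1 (by omega)))

theorem g_le_succ (n : ℕ) : g n ≤ g (n + 1) := by
  rw [g_succ]; exact Nat.le_mul_of_pos_left _ (pow_pos two_pos _)

theorem g_add_three {n : ℕ} (h : n % 4 = 0) : g (n + 3) = 2 * g n := by
  rw [g_succ_odd (by omega), g_succ_two (by omega), g_succ_odd (by omega)]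

theorem g_add_three' {n : ℕ} (h : n % 4 ≠ 0) : 4 * g n ≤ g (n + 3) := by
  have a := g_le_succ n
  have b : g (n + 1) ≤ g (n + 2) := g_le_succ (n + 1)
  have c : g (n + 2) ≤ g (n + 3) := g_le_succ (n + 2)
  rcases (by omega : n % 4 = 1 ∨ n % 4 = 2 ∨ n % 4 = 3) with e | e | e
  · have : _ ≤ g (n + 3) := g_succ_four (n := n + 2) (by omega)
    omega
  · have : _ ≤ g (n + 2) := g_succ_four (n := n + 1) (by omega)
    omega
  · have := g_succ_four e; omega

theorem g_zero : g 0 = 1 := by simp [g]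
theorem g_one : g 1 = 1 := by simp [g]
theorem g_three : g 3 = 2 := by rw [g_add_three (n := 0) rfl, g_zero]

theorem F_pp {p : ℕ} (hp : p.Prime) (k : ℕ) : F (p ^ k) = p ^ ((p ^ k - 1) / (p - 1)) := by
  rw [F, hp.factorization_pow, Finsupp.prod_single_index (by simp)]

theorem F_mul {a b : ℕ} (h : a.Coprime b) : F (a * b) = F a * F b := by
  rw [F, factorization_mul_of_coprime h, Finsupp.prod_add_index_of_disjoint h.disjoint_primeFactors]
  rfl

theorem F_prime {p : ℕ} (hp : p.Prime) : F p = p := by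
  have := F_pp hp 1
  rwa [pow_one, Nat.div_self (by have := hp.two_le; omega), pow_one] at this

theorem F_ne_zero (m : ℕ) : F m ≠ 0 :=
  Finsupp.prod_ne_zero_iff.2 fun p hp => pow_ne_zero _ (prime_of_mem_primeFactors hp).ne_zero

theorem dvd_F {m f : ℕ} (hf : f ≠ 0)
    (h : ∀ p, p.Prime → (p - 1) * f.factorization p < p ^ m.factorization p) : f ∣ F m := by
  refine (factorization_prime_le_iff_dvd hf (F_ne_zero m)).1 fun p hp => ?_
  have h1 : f.factorization p ≤ (p ^ m.factorization p - 1) / (p - 1) :=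
    (Nat.le_div_iff_mul_le (by have := hp.two_le; omega)).2 (by have := h p hp; rw [mul_comm]; omega)
  refine h1.trans ?_
  by_cases hm : p ∈ m.primeFactors
  · exact (hp.pow_dvd_iff_le_factorization (F_ne_zero m)).1
      (Finset.dvd_prod_of_mem (fun p => p ^ ((p ^ m.factorization p - 1) / (p - 1))) hm)
  · rw [show m.factorization p = 0 from Finsupp.notMem_support_iff.1 hm]; simp

theorem sq_le_three_pow {p : ℕ} (h : 3 ≤ p) : p ^ 2 ≤ 3 ^ (p - 1) := by
  induction p, h using Nat.le_induction with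
  | base => norm_num
  | succ p h ih =>
    obtain ⟨p, rfl⟩ := Nat.exists_eq_add_of_le' (show 1 ≤ p by omega)
    simp only [Nat.add_sub_cancel] at *
    rw [pow_succ 3]; nlinarith

theorem F_odd (r : ℕ) (hr : ¬ 2 ∣ r) : F r ^ 2 ≤ 3 ^ (r - 1) := by
  induction r using Nat.recOnPosPrimePosCoprime with
  | zero => simp at hr
  | one => simp [F]
  | prime_pow p k hp hk =>
    have h3 : 3 ≤ p := by
      have := hp.two_le
      rcases this.eq_or_lt with rfl | h
      · exact absurd (dvd_pow_self 2 hk.ne') hr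
      · omega
    rw [F_pp hp, ← pow_mul, mul_comm, pow_mul]
    refine (Nat.pow_le_pow_left (sq_le_three_pow h3) _).trans ?_
    rw [← pow_mul]
    exact Nat.pow_le_pow_right (by norm_num) (Nat.mul_div_le _ _)
  | coprime a b ha hb hab iha ihb =>
    rw [F_mul hab, mul_pow]
    refine (Nat.mul_le_mul (iha fun h => hr (h.mul_right _)) (ihb fun h => hr (h.mul_left _))).trans ?_
    rw [← pow_add]
    refine Nat.pow_le_pow_right (by norm_num) ?_
    obtain ⟨a, rfl⟩ := Nat.exists_eq_add_of_lt ha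
    obtain ⟨b, rfl⟩ := Nat.exists_eq_add_of_lt hb
    apply Nat.le_sub_one_of_lt
    simp only [Nat.add_sub_cancel]
    nlinarith

theorem F_sq_le {m p : ℕ} (hm : m ≠ 0) (hp : p.Prime) (h2 : p ≠ 2) (h : p ∣ m) :
    F m ^ 2 ≤ 3 ^ (m - 1) := by
  obtain ⟨a, r, hr, rfl⟩ := Nat.exists_eq_pow_mul_and_not_dvd hm 2 (by norm_num)
  have h3 : p ∣ r := ((coprime_primes hp prime_two).2 h2).pow_right a |>.dvd_of_dvd_mul_left h
  have h4 : 3 ≤ r := by
    have := Nat.le_of_dvd (by omega) h3
    have := hp.two_le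
    omega
  rw [F_mul ((prime_two.coprime_iff_not_dvd.2 hr).pow_left a), mul_pow, F_pp prime_two]
  have h5 : 1 ≤ 2 ^ a := Nat.one_le_two_pow
  obtain ⟨c, hc⟩ := Nat.exists_eq_add_of_le' h5
  rw [hc]
  simp only [Nat.add_sub_cancel, Nat.add_one_sub_one, Nat.div_one]
  refine (Nat.mul_le_mul (show _ ≤ 3 ^ (3 * c) from ?_) (F_odd r hr)).trans ?_
  · rw [← pow_mul, mul_comm, pow_mul, pow_mul]
    exact Nat.pow_le_pow_left (by norm_num) _
  · rw [← pow_add]
    refine Nat.pow_le_pow_right (by norm_num) ?_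
    obtain ⟨r, rfl⟩ := Nat.exists_eq_add_of_le' (show 1 ≤ r by omega)
    apply Nat.le_sub_one_of_lt
    simp only [Nat.add_sub_cancel]
    nlinarith

theorem g_big {m : ℕ} (h : 16 ≤ m) : 4 * 3 ^ (m - 1) < g m ^ 2 := by
  induction m using Nat.strong_induction_on with
  | _ m ih =>
  by_cases h' : m < 24
  · have key : ∀ k, 2 ^ k ∣ m ! → 4 * 3 ^ (m - 1) < (2 ^ k) ^ 2 → 4 * 3 ^ (m - 1) < g m ^ 2 :=
      fun k a b => b.trans_le (Nat.pow_le_pow_left (le_g a) 2)
    interval_cases m
    · exact key 15 (by decide) (by norm_num)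
    · exact key 15 (by decide) (by norm_num)
    · exact key 16 (by decide) (by norm_num)
    · exact key 16 (by decide) (by norm_num)
    · exact key 18 (by decide) (by norm_num)
    · exact key 18 (by decide) (by norm_num)
    · exact key 19 (by decide) (by norm_num)
    · exact key 19 (by decide) (by norm_num)
  · obtain ⟨k, rfl⟩ := Nat.exists_eq_add_of_le' (show 9 ≤ m by omega)
    have h1 := ih (k + 1) (by omega) (by omega)
    have h2 := g_mul_le (k + 1) 8
    have h3 : 2 ^ 7 ≤ g 8 := le_g (by decide)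
    have h4 : (g (k + 1) * 2 ^ 7) ^ 2 ≤ g (k + 9) ^ 2 :=
      Nat.pow_le_pow_left ((Nat.mul_le_mul_left _ h3).trans h2) 2
    simp only [Nat.add_sub_cancel] at h1
    rw [show k + 9 - 1 = k + 8 by omega, pow_add]
    rw [mul_pow] at h4
    nlinarith

theorem F_bound {m p : ℕ} (hm : m ≠ 0) (hp : p.Prime) (h2 : p ≠ 2) (h : p ∣ m) (h3 : m ≠ 3) :
    2 * F m < g m ∨ (m = 5 ∧ F m = 5) ∨ (m = 9 ∧ F m = 81) := by
  by_cases h' : 16 ≤ m
  · left
    have h1 := F_sq_le hm hp h2 h
    have h4 := g_big h'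
    exact lt_of_pow_lt_pow_left₀ 2 (Nat.zero_le _) (by rw [mul_pow]; omega)
  have key : ∀ k f, 2 ^ k ∣ m ! → F m = f → 2 * f < 2 ^ k → 2 * F m < g m :=
    fun k f a b c => b ▸ c.trans_le (le_g a)
  have hp2 : ∀ k, m ≠ 2 ^ k := fun k e =>
    h2 ((prime_dvd_prime_iff_eq hp prime_two).1 (hp.dvd_of_dvd_pow (e ▸ h)))
  have f2 := F_prime prime_two
  have f3 := F_prime prime_three
  have f4 : F 4 = 8 := F_pp prime_two 2
  have f5 := F_prime prime_five
  have f7 := F_prime (p := 7) (by norm_num)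
  have hlt : m < 16 := by omega
  interval_cases m
  · exact absurd rfl hm
  · exact absurd rfl (hp2 0)
  · exact absurd rfl (hp2 1)
  · exact absurd rfl h3
  · exact absurd rfl (hp2 2)
  · exact .inr (.inl ⟨rfl, f5⟩)
  · exact .inl (key 4 6 (by decide) ((F_mul (a := 2) (b := 3) (by norm_num)).trans (by rw [f2, f3])) (by norm_num))
  · exact .inl (key 4 7 (by decide) f7 (by norm_num))
  · exact absurd rfl (hp2 3)
  · exact .inr (.inr ⟨rfl, F_pp prime_three 2⟩)
  · exact .inl (key 8 10 (by decide) ((F_mul (a := 2) (b := 5) (by norm_num)).trans (by rw [f2, f5])) (by norm_num))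
  · exact .inl (key 8 11 (by decide) (F_prime (by norm_num)) (by norm_num))
  · exact .inl (key 10 24 (by decide) ((F_mul (a := 4) (b := 3) (by norm_num)).trans (by rw [f4, f3])) (by norm_num))
  · exact .inl (key 10 13 (by decide) (F_prime (by norm_num)) (by norm_num))
  · exact .inl (key 11 14 (by decide) ((F_mul (a := 2) (b := 7) (by norm_num)).trans (by rw [f2, f7])) (by norm_num))
  · exact .inl (key 11 15 (by decide) ((F_mul (a := 3) (b := 5) (by norm_num)).trans (by rw [f3, f5])) (by norm_num))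

end Cfsg.Agent.SymNil
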