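import Mathlib
import Cfsg.Agent.SymNil.Num
import Cfsg.Agent.Core.Fitting
import Cfsg.Agent.Core.Product

/-! Nilpotent subgroups of symmetric groups: the basic trichotomy. -/

set_option autoImplicit false

namespace Cfsg.Agent.SymNil

open Cfsg Cfsg.Agent.Core Subgroup Equiv Equiv.Perm

theorem core_index_dvd {N : Type*} [Group N] [Finite N] [Group.IsNilpotent N] (H : Subgroup N) :
    H.normalCore.index ∣ F H.index := by
  refine dvd_F index_ne_zero_of_finite fun p hp => ?_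
  have := Fact.mk hp
  obtain ⟨S⟩ : Nonempty (Sylow p N) := inferInstance
  have e := pCore_eq_sylow_of_nilpotent S
  have hS : (S : Subgroup N).Normal := e ▸ inferInstance
  set D := (H.subgroupOf S).normalCore.map (S : Subgroup N).subtype
  have d1 : D ≤ H := (map_mono (normalCore_le _)).trans (by simp)
  have d2 : D.Normal := by
    refine normal_of_le_normalizer ((fitting_eq_top_iff.2 ‹_›).ge.trans
      ((fitting_le_pCore_sup_pPrimeCore p).trans (sup_le ?_ ?_)))
    · rw [e]; exact le_normalizer_map_subtype_of_normal _ _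
    · refine (pPrimeCore_le_centralizer_pCore p).trans ((centralizer_le ?_).trans
        (centralizer_le_normalizer _))
      rw [e]; exact map_subtype_le _
  have d3 : D.relIndex S ∣ (H.relIndex S).factorial := by
    rw [relIndex, subgroupOf, comap_map_eq_self_of_injective (subtype_injective _), normalCore_eq_ker,
      index_ker, relIndex, index_eq_card, ← Nat.card_perm]
    exact card_subgroup_dvd_card _
  have d4 : H.normalCore.index ∣ (H.relIndex S).factorial * (S : Subgroup N).index := by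
    refine (index_dvd_of_le (normal_le_normalCore.2 d1)).trans (Dvd.dvd.trans ?_ (mul_dvd_mul_right d3 _))
    rw [relIndex_mul_index (map_subtype_le _)]
  obtain ⟨j, hj⟩ : ∃ j, H.relIndex S = p ^ j := by
    obtain ⟨k, hk⟩ := S.isPGroup'.exists_card_eq
    obtain ⟨j, -, hj⟩ := (Nat.dvd_prime_pow hp).1 (hk ▸ relIndex_dvd_card' H S)
    exact ⟨j, hj⟩
  have d5 : j ≤ H.index.factorization p := by
    refine (hp.pow_dvd_iff_le_factorization index_ne_zero_of_finite).1 ?_
    rw [← hj, ← relIndex_sup_eq_relIndex (N := S) (H := H) le_normalizer_of_normal]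
    exact relIndex_dvd_index_of_le le_sup_right
  have d6 := (Nat.factorization_prime_le_iff_dvd index_ne_zero_of_finite
    (mul_ne_zero (Nat.factorial_ne_zero _) index_ne_zero_of_finite)).2 d4 p hp
  rw [Nat.factorization_mul (Nat.factorial_ne_zero _) index_ne_zero_of_finite, Finsupp.add_apply,
    Nat.factorization_eq_zero_of_not_dvd S.not_dvd_index, add_zero, hj,
    Nat.factorization_def (Nat.factorial _) hp] at d6
  exact ((Nat.mul_le_mul_left _ d6).trans_lt (sub_one_mul_padicValNat_factorial_lt_of_ne_zero p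
    (pow_ne_zero _ hp.ne_zero))).trans_le (Nat.pow_le_pow_right hp.pos d5)

theorem dvd_index_of_not_mem {N : Type*} [Group N] [Finite N] [Group.IsNilpotent N] (H : Subgroup N)
    {p : ℕ} (hp : p.Prime) {y : N} (hy : orderOf y = p) (h : y ∉ H) : p ∣ H.index := by
  have := Fact.mk hp
  by_contra hc
  obtain ⟨S⟩ : Nonempty (Sylow p H) := inferInstance
  have h1 : IsPGroup p (zpowers y) := IsPGroup.of_card (n := 1) (by rw [Nat.card_zpowers, hy, pow_one])
  obtain ⟨T, hT⟩ := h1.exists_le_sylow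
  have hn : (T : Subgroup N).Normal := pCore_eq_sylow_of_nilpotent T ▸ inferInstance
  have h2 : H.relIndex T ∣ H.index := by
    rw [← relIndex_sup_eq_relIndex (N := T) (H := H) le_normalizer_of_normal]
    exact relIndex_dvd_index_of_le le_sup_right
  obtain ⟨k, hk⟩ := T.isPGroup'.exists_card_eq
  obtain ⟨j, -, hj⟩ := (Nat.dvd_prime_pow hp).1 (hk ▸ relIndex_dvd_card' H T)
  rcases j with _ | j
  · exact h (relIndex_eq_one.1 hj (hT (mem_zpowers y)))
  · exact hc ((dvd_pow_self p j.succ_ne_zero).trans (hj ▸ h2))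

variable {Ω : Type*} [Fintype Ω] [DecidableEq Ω]

/-- The permutations supported on `s`. -/
def Fx (s : Finset Ω) : Subgroup (Perm Ω) := (ofSubtype : Perm {x // x ∈ s} →* Perm Ω).range

theorem mem_Fx {s : Finset Ω} {x : Perm Ω} : x ∈ Fx s ↔ x.support ⊆ s := by
  rw [Fx, mem_range_ofSubtype_iff]; rfl

theorem mem_Fx_compl {s : Finset Ω} {x : Perm Ω} : x ∈ Fx sᶜ ↔ ∀ a ∈ s, x a = a := by
  rw [mem_Fx]
  refine ⟨fun h a ha => by_contra fun c => Finset.mem_compl.1 (h (mem_support.2 c)) ha,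
    fun h a ha => Finset.mem_compl.2 fun c => mem_support.1 ha (h a c)⟩

/-- The orbit of a point as a finset. -/
noncomputable def orb (N : Subgroup (Perm Ω)) (ω : Ω) : Finset Ω := (MulAction.orbit N ω).toFinite.toFinset

theorem mem_orb {N : Subgroup (Perm Ω)} {ω a : Ω} : a ∈ orb N ω ↔ ∃ x ∈ N, x ω = a := by
  simp [orb, MulAction.mem_orbit_iff, Subgroup.smul_def]

theorem card_orb (N : Subgroup (Perm Ω)) (ω : Ω) :
    (orb N ω).card = (MulAction.stabilizer N ω).index := by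
  rw [MulAction.index_stabilizer, orb, Set.ncard_eq_toFinset_card]

theorem relIndex_orb (N : Subgroup (Perm Ω)) (hN : Group.IsNilpotent N) (ω : Ω) :
    (Fx (orb N ω)ᶜ).relIndex N ∣ F (orb N ω).card := by
  rw [card_orb]
  refine Dvd.dvd.trans (index_dvd_of_le fun x hx => ?_) (core_index_dvd _)
  rw [mem_subgroupOf, mem_Fx_compl]
  intro a ha
  obtain ⟨y, hy, rfl⟩ := mem_orb.1 ha
  have : ((⟨y, hy⟩ : N)⁻¹ * x * (⟨y, hy⟩ : N)⁻¹⁻¹) • ω = ω := hx _
  simpa [Subgroup.smul_def, Equiv.symm_apply_eq] using this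

theorem dvd_card_orb {N : Subgroup (Perm Ω)} (hN : Group.IsNilpotent N) {ω : Ω} {y : Perm Ω}
    (hy : y ∈ N) {p : ℕ} (hp : p.Prime) (ho : orderOf y = p) (h : y ω ≠ ω) : p ∣ (orb N ω).card := by
  rw [card_orb]
  exact dvd_index_of_not_mem _ hp (y := ⟨y, hy⟩) (by rwa [← orderOf_coe]) h

theorem exists_odd {K : Subgroup (Perm Ω)} (h : ¬ IsPGroup 2 K) :
    ∃ p, p.Prime ∧ p ≠ 2 ∧ ∃ y ∈ K, orderOf y = p ∧ ∃ ω, y ω ≠ ω := by
  obtain ⟨p, hp, h1, h2⟩ : ∃ p, p.Prime ∧ p ∣ Nat.card K ∧ p ≠ 2 := by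
    by_contra hc
    push Not at hc
    exact h (IsPGroup.of_card (Nat.eq_prime_pow_of_unique_prime_dvd Nat.card_pos.ne'
      fun {d} a b => hc d a b))
  have := Fact.mk hp
  obtain ⟨y, hy⟩ := exists_prime_orderOf_dvd_card' p h1
  refine ⟨p, hp, h2, y, y.2, by rwa [orderOf_coe], by_contra fun hc => ?_⟩
  push Not at hc
  rw [show y = 1 from Subtype.ext (Equiv.ext hc), orderOf_one] at hy
  exact hp.one_lt.ne hy

theorem trichotomy (N : Subgroup (Perm Ω)) (hN : Group.IsNilpotent N) : IsPGroup 2 N ∨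
    (∃ c ∈ N, c.IsThreeCycle ∧ IsPGroup 2 (N ⊓ Fx c.supportᶜ : Subgroup _) ∧
      (Fx c.supportᶜ).relIndex N = 3) ∨
    ∃ s : Finset Ω, 2 * (Fx sᶜ).relIndex N < g s.card ∨
      (s.card = 5 ∧ (Fx sᶜ).relIndex N ≤ 5) ∨ (s.card = 6 ∧ (Fx sᶜ).relIndex N ≤ 9) ∨
      (s.card = 9 ∧ (Fx sᶜ).relIndex N ≤ 81) := by
  by_cases h : IsPGroup 2 N
  · exact .inl h
  right
  have le : ∀ ω, (Fx (orb N ω)ᶜ).relIndex N ≤ F (orb N ω).card := fun ω =>
    Nat.le_of_dvd (Nat.pos_of_ne_zero (F_ne_zero _)) (relIndex_orb N hN ω)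
  by_cases h1 : ∃ p, p.Prime ∧ p ≠ 2 ∧ ∃ ω, p ∣ (orb N ω).card ∧ (orb N ω).card ≠ 3
  · obtain ⟨p, hp, h2, ω, h3, h4⟩ := h1
    refine .inr ⟨orb N ω, ?_⟩
    have := le ω
    rcases F_bound (Finset.card_ne_zero.2 ⟨ω, mem_orb.2 ⟨1, one_mem _, rfl⟩⟩) hp h2 h3 h4 with
      a | ⟨a, b⟩ | ⟨a, b⟩
    · exact .inl (by omega)
    · exact .inr (.inl ⟨a, by omega⟩)
    · exact .inr (.inr (.inr ⟨a, by omega⟩))
  push Not at h1
  have le3 : ∀ ω, (orb N ω).card = 3 → (Fx (orb N ω)ᶜ).relIndex N ∣ 3 := fun ω a => by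
    have := relIndex_orb N hN ω
    rwa [a, F_prime Nat.prime_three] at this
  by_cases h2 : ∃ ω ω', (orb N ω).card = 3 ∧ (orb N ω').card = 3 ∧ ω' ∉ orb N ω
  · obtain ⟨ω, ω', a, b, c⟩ := h2
    refine .inr ⟨orb N ω ∪ orb N ω', .inr (.inr (.inl ⟨?_, ?_⟩))⟩
    · rw [Finset.card_union_of_disjoint, a, b]
      refine Finset.disjoint_left.2 fun x hx hx' => c ?_
      obtain ⟨y, hy, rfl⟩ := mem_orb.1 hx
      obtain ⟨z, hz, e⟩ := mem_orb.1 hx'
      exact mem_orb.2 ⟨z⁻¹ * y, mul_mem (inv_mem hz) hy, by simp [← e]⟩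
    · have e : Fx (orb N ω ∪ orb N ω')ᶜ = Fx (orb N ω)ᶜ ⊓ Fx (orb N ω')ᶜ := by
        ext x; simp only [mem_inf, mem_Fx_compl, Finset.mem_union, or_imp, forall_and]
      rw [e]
      exact relIndex_inf_le.trans (Nat.mul_le_mul (Nat.le_of_dvd three_pos (le3 ω a))
        (Nat.le_of_dvd three_pos (le3 ω' b)))
  push Not at h2
  obtain ⟨p, hp, p2, y, hy, ho, ω, hω⟩ := exists_odd h
  have a := h1 p hp p2 ω (dvd_card_orb hN hy hp ho hω)
  have key : ∀ q, q.Prime → q ≠ 2 → ∀ z ∈ N, orderOf z = q → z.support ⊆ orb N ω :=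
    fun q hq q2 z hz hzo x hx => h2 ω x a (h1 q hq q2 x (dvd_card_orb hN hz hq hzo (mem_support.1 hx)))
  have b := key p hp p2 y hy ho
  have c : y.IsThreeCycle := by
    rw [← card_support_eq_three_iff]
    have h3 := Finset.card_le_card b
    have h4 : y ≠ 1 := fun e => hω (by simp [e])
    have h5 := two_le_card_support_of_ne_one h4
    have h6 : y.support.card ≠ 2 := fun e => p2 (ho ▸ (card_support_eq_two.1 e).orderOf)
    omega
  have d : y.support = orb N ω := Finset.eq_of_subset_of_card_le b (by rw [a, c.card_support])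
  refine .inl ⟨y, hy, c, by_contra fun hc => ?_, ?_⟩
  · obtain ⟨q, hq, q2, z, hz, hzo, x, hx⟩ := exists_odd hc
    exact hx (mem_Fx_compl.1 hz.2 x (d ▸ key q hq q2 z hz.1 hzo (mem_support.2 hx)))
  · rw [d]
    refine ((Nat.dvd_prime Nat.prime_three).1 (le3 ω a)).resolve_left fun e => hω ?_
    exact mem_Fx_compl.1 (relIndex_eq_one.1 e hy) ω (mem_orb.2 ⟨1, one_mem _, rfl⟩)

/-- Restriction of the part of `K` supported on `s`. -/
def res (s : Finset Ω) (K : Subgroup (Perm Ω)) : Subgroup (Perm {x // x ∈ s}) := K.comap ofSubtype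

theorem map_res (s : Finset Ω) (K : Subgroup (Perm Ω)) : (res s K).map ofSubtype = K ⊓ Fx s := by
  rw [res, map_comap_eq, inf_comm]; rfl

theorem card_res (s : Finset Ω) (K : Subgroup (Perm Ω)) :
    Nat.card (res s K) = Nat.card (K ⊓ Fx s : Subgroup _) := by
  rw [← map_res, card_map_of_injective ofSubtype_injective]

theorem res_nil (s : Finset Ω) {K : Subgroup (Perm Ω)} (h : Group.IsNilpotent K) :
    Group.IsNilpotent (res s K) := by
  have := nilpotent_of_le (inf_le_left : K ⊓ Fx s ≤ K) h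
  rw [← map_res] at this
  exact Group.nilpotent_of_mulEquiv (equivMapOfInjective _ _ ofSubtype_injective).symm

theorem res_alt (s : Finset Ω) {K : Subgroup (Perm Ω)} (h : K ≤ alternatingGroup Ω) :
    res s K ≤ alternatingGroup _ := fun x hx => by
  have := h hx
  rwa [mem_alternatingGroup, sign_ofSubtype] at this

theorem res_pgroup (s : Finset Ω) {K : Subgroup (Perm Ω)} (h : IsPGroup 2 (K ⊓ Fx s : Subgroup _)) :
    IsPGroup 2 (res s K) := by
  obtain ⟨k, hk⟩ := h.exists_card_eq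
  exact IsPGroup.of_card ((card_res s K).trans hk)

theorem card_eq_res (s : Finset Ω) (N : Subgroup (Perm Ω)) :
    Nat.card N = Nat.card (res s N) * (Fx s).relIndex N := by
  rw [card_res, inf_comm, card_inf_mul_relIndex]

theorem card_sub (s : Finset Ω) : Fintype.card {x // x ∈ sᶜ} + s.card = Fintype.card Ω := by
  rw [Fintype.card_coe, Finset.card_compl_add_card]

theorem two_le_g {N : Subgroup (Perm Ω)} (h : IsPGroup 2 N) : Nat.card N ≤ g (Fintype.card Ω) := by
  obtain ⟨k, hk⟩ := h.exists_card_eq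
  rw [hk]
  refine le_g ?_
  rw [← hk, ← Fintype.card_perm, ← Nat.card_eq_fintype_card]
  exact card_subgroup_dvd_card N

theorem two_le_g_alt {N : Subgroup (Perm Ω)} (h : IsPGroup 2 N) (hA : N ≤ alternatingGroup Ω)
    (h2 : 2 ≤ Fintype.card Ω) : 2 * Nat.card N ≤ g (Fintype.card Ω) := by
  obtain ⟨k, hk⟩ := h.exists_card_eq
  have := Fintype.one_lt_card_iff_nontrivial.1 h2
  rw [hk, ← pow_succ']
  refine le_g ?_
  rw [pow_succ', ← hk, ← Fintype.card_perm, ← Nat.card_eq_fintype_card,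
    ← two_mul_nat_card_alternatingGroup]
  exact mul_dvd_mul_left _ (card_dvd_of_le hA)

theorem g5 : 8 ≤ g 5 := le_g (k := 3) (by decide)
theorem g6 : 16 ≤ g 6 := le_g (k := 4) (by decide)
theorem g7 : 16 ≤ g 7 := le_g (k := 4) (by decide)
theorem g9 : 128 ≤ g 9 := le_g (k := 7) (by decide)
theorem g10 : 256 ≤ g 10 := le_g (k := 8) (by decide)

theorem three_mul_lt {m f : ℕ} (h : 2 * f < g m ∨ (m = 5 ∧ f ≤ 5) ∨ (m = 6 ∧ f ≤ 9) ∨ (m = 9 ∧ f ≤ 81))
    (hf : f ≠ 0) : 3 * f < 2 * g m ∧ m ≠ 0 := by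
  have := g5
  have := g6
  have := g9
  rcases h with h | ⟨rfl, h⟩ | ⟨rfl, h⟩ | ⟨rfl, h⟩
  · exact ⟨by omega, fun e => by rw [e, g_zero] at h; omega⟩
  all_goals omega

universe u

theorem sym_aux (n : ℕ) : ∀ (Ω : Type u) [Fintype Ω] [DecidableEq Ω] (N : Subgroup (Perm Ω)),
    Group.IsNilpotent N → Fintype.card Ω = n → 2 * Nat.card N ≤ 3 * g n ∧ (IsPGroup 2 N ∨
    (∃ c ∈ N, c.IsThreeCycle ∧ IsPGroup 2 (N ⊓ Fx c.supportᶜ : Subgroup _) ∧
      (Fx c.supportᶜ).relIndex N = 3) ∨ Nat.card N < g n) := by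
  induction n using Nat.strong_induction_on with
  | _ n ih =>
  intro Ω _ _ N hN hn
  rcases trichotomy N hN with h | ⟨c, hc, h1, h2, h3⟩ | ⟨s, h⟩
  · have := two_le_g h
    exact ⟨by rw [← hn]; omega, .inl h⟩
  · refine ⟨?_, .inr (.inl ⟨c, hc, h1, h2, h3⟩)⟩
    have a := two_le_g (res_pgroup _ h2)
    have b := card_eq_res c.supportᶜ N
    have d := card_sub c.support
    have e := g_mul_le (Fintype.card {x // x ∈ c.supportᶜ}) 3
    rw [h1.card_support] at d
    rw [g_three, d, hn] at e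
    rw [h3] at b
    omega
  · obtain ⟨a, b⟩ := three_mul_lt h index_ne_zero_of_finite
    have d := card_sub s
    have e := (ih _ (by omega) _ _ (res_nil sᶜ hN) rfl).1
    have f := g_mul_le (Fintype.card {x // x ∈ sᶜ}) s.card
    rw [d, hn] at f
    have k : Nat.card N < g n := by
      rw [card_eq_res sᶜ N]
      have := g_pos (Fintype.card {x // x ∈ sᶜ})
      nlinarith
    exact ⟨by omega, .inr (.inr k)⟩

theorem alt_aux (n : ℕ) : ∀ (Ω : Type u) [Fintype Ω] [DecidableEq Ω] (N : Subgroup (Perm Ω)),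
    Group.IsNilpotent N → N ≤ alternatingGroup Ω → Fintype.card Ω = n →
    (2 ≤ n → n ≠ 3 → 4 * Nat.card N ≤ 3 * g n) ∧ (IsPGroup 2 N ∨
    (∃ c ∈ N, c.IsThreeCycle ∧ IsPGroup 2 (N ⊓ Fx c.supportᶜ : Subgroup _) ∧
      (Fx c.supportᶜ).relIndex N = 3) ∨ 2 * Nat.card N < g n ∨
      (n % 4 = 3 ∧ 4 * Nat.card N < 3 * g n) ∨ (n = 5 ∧ Nat.card N ≤ 5) ∨ (n = 6 ∧ Nat.card N ≤ 9) ∨
      (n = 9 ∧ Nat.card N ≤ 81)) := by
  induction n using Nat.strong_induction_on with
  | _ n ih =>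
  intro Ω _ _ N hN hA hn
  rcases trichotomy N hN with h | ⟨c, hc, h1, h2, h3⟩ | ⟨s, h⟩
  · refine ⟨fun h2 _ => ?_, .inl h⟩
    have := two_le_g_alt h hA (hn ▸ h2)
    rw [← hn]; omega
  · refine ⟨fun _ h4 => ?_, .inr (.inl ⟨c, hc, h1, h2, h3⟩)⟩
    have a := two_le_g (res_pgroup _ h2)
    have a' := two_le_g_alt (res_pgroup _ h2) (res_alt _ hA)
    have b := card_eq_res c.supportᶜ N
    have d := card_sub c.support
    have e := g_mul_le (Fintype.card {x // x ∈ c.supportᶜ}) 3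
    have e' := g_add_three' (n := Fintype.card {x // x ∈ c.supportᶜ})
    rw [h1.card_support] at d
    rw [g_three, d, hn] at e
    rw [d, hn] at e'
    rw [h3] at b
    omega
  · obtain ⟨a, b⟩ := three_mul_lt h index_ne_zero_of_finite
    have d := card_sub s
    have e := (ih _ (by omega) _ _ (res_nil sᶜ hN) (res_alt _ hA) rfl).1
    have e' := (sym_aux _ _ _ (res_nil sᶜ hN) rfl).1
    have f := g_mul_le (Fintype.card {x // x ∈ sᶜ}) s.card
    have c := card_eq_res sᶜ N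
    rw [d, hn] at f
    rw [hn] at d
    have := g5
    have := g6
    have := g7
    have := g9
    have := g10
    suffices k : 2 * Nat.card N < g n ∨ (n % 4 = 3 ∧ 4 * Nat.card N < 3 * g n) ∨
        (n = 5 ∧ Nat.card N ≤ 5) ∨ (n = 6 ∧ Nat.card N ≤ 9) ∨ (n = 9 ∧ Nat.card N ≤ 81) by
      refine ⟨fun _ _ => ?_, .inr (.inr k)⟩
      rcases k with k | k | ⟨rfl, k⟩ | ⟨rfl, k⟩ | ⟨rfl, k⟩ <;> omega
    generalize Fintype.card {x // x ∈ sᶜ} = k at *
    generalize Nat.card (res sᶜ N) = r at *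
    generalize (Fx sᶜ).relIndex N = i at *
    generalize s.card = m at *
    subst d
    by_cases k1 : k ≤ 1
    · have r1 : r ≤ 1 := by
        interval_cases k
        · rw [g_zero] at e'; omega
        · rw [g_one] at e'; omega
      have r2 : Nat.card N ≤ i := by rw [c]; nlinarith
      have := g_pos k
      have r3 : g m ≤ g (k + m) := by nlinarith
      interval_cases k
      · simp only [zero_add] at *
        omega
      · rcases h with h | ⟨rfl, h⟩ | ⟨rfl, h⟩ | ⟨rfl, h⟩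
        · omega
        all_goals norm_num at *; omega
    by_cases k3 : k = 3
    · subst k3
      rw [g_three] at e'
      have r2 : Nat.card N ≤ 3 * i := by rw [c]; nlinarith
      rw [add_comm]
      by_cases m4 : m % 4 = 0
      · have := g_add_three m4
        omega
      · have := g_add_three' m4
        omega
    · have := e (by omega) k3
      have := g_pos k
      left
      rw [c]
      nlinarith

end Cfsg.Agent.SymNil
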